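import Mathlib.LinearAlgebra.Matrix.GeneralLinearGroup.Defs
import Mathlib.LinearAlgebra.FiniteDimensional.Lemmas
import Cfsg.Prelude.Def_GeometricClasses

/-!
# S5211 (StRes): a regular unipotent element normalizes no quadratic field subalgebra
-/

set_option autoImplicit false

namespace Cfsg.Agent.H776.U2

open Matrix

universe u

/-- the line of `f³` is invariant under everything commuting with `f` -/
theorem key {F V : Type*} [Field F] [AddCommGroup V] [Module F V] [Module.Finite F V] (hd : Module.finrank F V = 4)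
    (f g : V →ₗ[F] V) (hfg : ∀ v, f (g v) = g (f v)) (h4 : ∀ v, f (f (f (f v))) = 0) (v : V)
    (h3 : f (f (f v)) ≠ 0) : ∃ c : F, g (f (f (f v))) = c • f (f (f v)) := by
  have li : LinearIndependent F ![v, f v, f (f v), f (f (f v))] := by
    rw [Fintype.linearIndependent_iff]
    intro a ha
    simp only [Fin.sum_univ_four, Matrix.cons_val_zero, Matrix.cons_val_one, Matrix.cons_val] at ha
    have e0 : a 0 = 0 := by
      have h := congrArg (fun w => f (f (f w))) ha
      simp only [map_add, map_smul, h4, smul_zero, add_zero, map_zero] at h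
      exact (smul_eq_zero.1 h).resolve_right h3
    have e1 : a 1 = 0 := by
      have h := congrArg (fun w => f (f w)) ha
      simp only [map_add, map_smul, h4, smul_zero, add_zero, map_zero, e0, zero_smul, zero_add] at h
      exact (smul_eq_zero.1 h).resolve_right h3
    have e2 : a 2 = 0 := by
      have h := congrArg (fun w => f w) ha
      simp only [map_add, map_smul, h4, smul_zero, add_zero, map_zero, e0, e1, zero_smul, zero_add] at h
      exact (smul_eq_zero.1 h).resolve_right h3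
    have e3 : a 3 = 0 := by
      simp only [e0, e1, e2, zero_smul, zero_add] at ha
      exact (smul_eq_zero.1 ha).resolve_right h3
    intro i
    fin_cases i
    · exact e0
    · exact e1
    · exact e2
    · exact e3
  have hs : g (f (f (f v))) ∈ Submodule.span F (Set.range ![v, f v, f (f v), f (f (f v))]) := by
    rw [li.span_eq_top_of_card_eq_finrank (by simp [hd])]
    trivial
  rw [Submodule.mem_span_range_iff_exists_fun] at hs
  obtain ⟨a, ha⟩ := hs
  simp only [Fin.sum_univ_four, Matrix.cons_val_zero, Matrix.cons_val_one, Matrix.cons_val] at ha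
  have h5 : f (g (f (f (f v)))) = 0 := by rw [hfg, h4, map_zero]
  rw [← ha] at h5
  have e0 : a 0 = 0 := by
    have h := congrArg (fun w => f (f w)) h5
    simp only [map_add, map_smul, h4, smul_zero, add_zero, map_zero] at h
    exact (smul_eq_zero.1 h).resolve_right h3
  have e1 : a 1 = 0 := by
    have h := congrArg (fun w => f w) h5
    simp only [map_add, map_smul, h4, smul_zero, add_zero, map_zero, e0, zero_smul, zero_add] at h
    exact (smul_eq_zero.1 h).resolve_right h3
  have e2 : a 2 = 0 := by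
    simp only [map_add, map_smul, h4, smul_zero, add_zero, map_zero, e0, e1, zero_smul, zero_add] at h5
    exact (smul_eq_zero.1 h5).resolve_right h3
  refine ⟨a 3, ?_⟩
  rw [← ha, e0, e1, e2]
  simp

theorem fld {F : Type u} [Field F] {K : Subalgebra F (Matrix (Fin 2 ⊕ Fin 2) (Fin 2 ⊕ Fin 2) F)}
    (hK : Cfsg.Geo.IsFieldSubalgebra 2 K) {p : ℕ} (hp : p.Prime) (h2 : p ≠ 2) {x : GL (Fin 2 ⊕ Fin 2) F} (hx : x ^ p = 1)
    (h4 : ((x : Matrix (Fin 2 ⊕ Fin 2) (Fin 2 ⊕ Fin 2) F) - 1) ^ 4 = 0) (hm : x ∈ Cfsg.Geo.subalgebraNormalizer K) :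
    ((x : Matrix (Fin 2 ⊕ Fin 2) (Fin 2 ⊕ Fin 2) F) - 1) ^ 3 = 0 := by
  -- a non-scalar element
  have hne : K ≠ ⊥ := by
    intro h
    have h1 := Subalgebra.finrank_eq_one_iff.2 h
    rw [hK.finrank_eq] at h1
    omega
  obtain ⟨k, hk, hk0⟩ := SetLike.exists_of_lt (bot_lt_iff_ne_bot.2 hne)
  have hks : ∀ c : F, k ≠ c • (1 : Matrix (Fin 2 ⊕ Fin 2) (Fin 2 ⊕ Fin 2) F) := by
    intro c hc
    apply hk0
    rw [Algebra.mem_bot]
    exact ⟨c, by rw [hc, Algebra.algebraMap_eq_smul_one]⟩
  -- every element of `K` is `a + b k`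
  have hfin : Module.Finite F K := Module.finite_of_finrank_pos (by rw [hK.finrank_eq]; norm_num)
  have hspan : ∀ m ∈ K, ∃ a b : F, m = a • (1 : Matrix (Fin 2 ⊕ Fin 2) (Fin 2 ⊕ Fin 2) F) + b • k := by
    intro m hmK
    have li : LinearIndependent F ![(1 : K), ⟨k, hk⟩] := by
      rw [LinearIndependent.pair_iff]
      intro a b hab
      have h1 : a • (1 : Matrix (Fin 2 ⊕ Fin 2) (Fin 2 ⊕ Fin 2) F) + b • k = 0 := congrArg Subtype.val hab
      have hb : b = 0 := by
        by_contra hb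
        apply hks (-(b⁻¹ * a))
        have h2 : b • k = -(a • (1 : Matrix (Fin 2 ⊕ Fin 2) (Fin 2 ⊕ Fin 2) F)) := by
          rw [eq_neg_iff_add_eq_zero, add_comm]
          exact h1
        have h3 : k = b⁻¹ • (b • k) := by rw [smul_smul, inv_mul_cancel₀ hb, one_smul]
        rw [h3, h2, smul_neg, smul_smul, neg_smul]
      refine ⟨?_, hb⟩
      rw [hb, zero_smul, add_zero] at h1
      exact (smul_eq_zero.1 h1).resolve_right one_ne_zero
    have h1 : (⟨m, hmK⟩ : K) ∈ Submodule.span F (Set.range ![(1 : K), ⟨k, hk⟩]) := by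
      rw [li.span_eq_top_of_card_eq_finrank (by simp [hK.finrank_eq])]
      trivial
    rw [Submodule.mem_span_range_iff_exists_fun] at h1
    obtain ⟨a, ha⟩ := h1
    simp only [Fin.sum_univ_two, Matrix.cons_val_zero, Matrix.cons_val_one] at ha
    exact ⟨a 0, a 1, (congrArg Subtype.val ha).symm⟩
  -- no zero divisors
  have nzd : ∀ u ∈ K, ∀ w ∈ K, u * w = 0 → u = 0 ∨ w = 0 := by
    intro u hu w hw huw
    by_cases h : u = 0
    · exact Or.inl h
    · right
      obtain ⟨y, hy, huy⟩ := hK.inv u hu h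
      have h1 : y * u = 1 := by rw [hK.comm y hy u hu, huy]
      calc w = (y * u) * w := by rw [h1, one_mul]
        _ = 0 := by rw [mul_assoc, huw, mul_zero]
  set X : Matrix (Fin 2 ⊕ Fin 2) (Fin 2 ⊕ Fin 2) F := (x : Matrix (Fin 2 ⊕ Fin 2) (Fin 2 ⊕ Fin 2) F) with hX
  set Y : Matrix (Fin 2 ⊕ Fin 2) (Fin 2 ⊕ Fin 2) F := ((x⁻¹ : GL (Fin 2 ⊕ Fin 2) F) : Matrix (Fin 2 ⊕ Fin 2) (Fin 2 ⊕ Fin 2) F) with hY
  have hXY : X * Y = 1 := by rw [hX, hY, ← Units.val_mul, mul_inv_cancel, Units.val_one]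
  have hYX : Y * X = 1 := by rw [hX, hY, ← Units.val_mul, inv_mul_cancel, Units.val_one]
  have hsK : X * k * Y ∈ K := (hm k).1 hk
  obtain ⟨a, b, hab⟩ := hspan (k * k) (K.mul_mem hk hk)
  have hs2 : (X * k * Y) * (X * k * Y) = a • (1 : Matrix (Fin 2 ⊕ Fin 2) (Fin 2 ⊕ Fin 2) F) + b • (X * k * Y) := by
    calc (X * k * Y) * (X * k * Y) = X * k * (Y * X) * k * Y := by simp only [mul_assoc]
      _ = X * (k * k) * Y := by rw [hYX, mul_one]; simp only [mul_assoc]
      _ = _ := by rw [hab, mul_add, add_mul, mul_smul_comm, mul_one, smul_mul_assoc, hXY, mul_smul_comm, smul_mul_assoc]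
  -- `x` commutes with `k`
  have hXk : X * k = k * X := by
    have hprod : (X * k * Y - k) * (X * k * Y + k - b • 1) = 0 := by
      have hc := hK.comm _ hsK k hk
      have e1 : (X * k * Y - k) * (X * k * Y + k - b • 1) =
          (X * k * Y) * (X * k * Y) + ((X * k * Y) * k - k * (X * k * Y)) - k * k - b • (X * k * Y) + b • k := by
        simp only [sub_mul, mul_sub, mul_add, mul_smul_comm, mul_one, smul_sub]
        abel
      rw [e1, hs2, hab, hc]
      abel
    rcases nzd _ (K.sub_mem hsK hk) _ (K.sub_mem (K.add_mem hsK hk) (K.smul_mem K.one_mem b)) hprod with h | h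
    · have h1 : X * k * Y = k := sub_eq_zero.1 h
      calc X * k = X * k * (Y * X) := by rw [hYX, mul_one]
        _ = (X * k * Y) * X := by simp only [mul_assoc]
        _ = k * X := by rw [h1]
    · have h1 : X * k * Y = b • 1 - k := by
        rw [sub_eq_zero] at h
        rw [← h]
        abel
      have h3 : X * k = b • X - k * X := by
        calc X * k = X * k * (Y * X) := by rw [hYX, mul_one]
          _ = (X * k * Y) * X := by simp only [mul_assoc]
          _ = b • X - k * X := by rw [h1, sub_mul, smul_mul_assoc, one_mul]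
      have h5 : Commute (X ^ 2) k := by
        show X ^ 2 * k = k * X ^ 2
        rw [sq]
        calc X * X * k = X * (X * k) := by rw [mul_assoc]
          _ = b • (X * X) - (X * k) * X := by rw [h3, mul_sub, mul_smul_comm, ← mul_assoc, h3]
          _ = k * (X * X) := by rw [h3, sub_mul, smul_mul_assoc, mul_assoc]; abel
      obtain ⟨j, hj⟩ : ∃ j, p = 2 * j + 1 := by
        rcases hp.eq_two_or_odd' with h | h
        · exact absurd h h2
        · exact h
      have h6 : X ^ p = 1 := by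
        rw [hX, ← Units.val_pow_eq_pow_val, hx, Units.val_one]
      have h7 : (X ^ 2) ^ (j + 1) = X := by
        rw [← pow_mul]
        calc X ^ (2 * (j + 1)) = X ^ (p + 1) := by rw [hj]; ring_nf
          _ = X := by rw [pow_succ, h6, one_mul]
      have h8 := h5.pow_left (j + 1)
      rw [h7] at h8
      exact h8
  -- the conclusion
  by_contra hcon
  have hV : ∃ v : Fin 2 ⊕ Fin 2 → F, ((X - 1) ^ 3) *ᵥ v ≠ 0 := by
    by_contra hno
    push Not at hno
    apply hcon
    apply Matrix.mulVec_injective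
    funext v
    rw [hno v, Matrix.zero_mulVec]
  obtain ⟨v, hv⟩ := hV
  let f : (Fin 2 ⊕ Fin 2 → F) →ₗ[F] (Fin 2 ⊕ Fin 2 → F) := Matrix.mulVecLin (X - 1)
  let g : (Fin 2 ⊕ Fin 2 → F) →ₗ[F] (Fin 2 ⊕ Fin 2 → F) := Matrix.mulVecLin k
  have hf : ∀ w, f w = (X - 1) *ᵥ w := fun w => rfl
  have hg : ∀ w, g w = k *ᵥ w := fun w => rfl
  have hfff : ∀ w, f (f (f w)) = ((X - 1) ^ 3) *ᵥ w := by
    intro w
    rw [hf, hf, hf, Matrix.mulVec_mulVec, Matrix.mulVec_mulVec]
    congr 1
    rw [pow_succ, sq, mul_assoc]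
  obtain ⟨c, hc⟩ := key (by simp) f g (fun w => by
      rw [hf, hf, hg, hg, Matrix.mulVec_mulVec, Matrix.mulVec_mulVec]
      congr 1
      rw [sub_mul, mul_sub, one_mul, mul_one, hXk]) (fun w => by
      rw [hfff, hf, Matrix.mulVec_mulVec, ← pow_succ, h4, Matrix.zero_mulVec]) v (by rw [hfff]; exact hv)
  rw [hfff, hg] at hc
  have hkc : k - c • 1 ∈ K := K.sub_mem hk (K.smul_mem K.one_mem c)
  have hkc0 : k - c • (1 : Matrix (Fin 2 ⊕ Fin 2) (Fin 2 ⊕ Fin 2) F) ≠ 0 := fun h => hks c (sub_eq_zero.1 h)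
  obtain ⟨y, hy, huy⟩ := hK.inv _ hkc hkc0
  have h9 : (k - c • 1) *ᵥ (((X - 1) ^ 3) *ᵥ v) = 0 := by
    rw [Matrix.sub_mulVec, hc, Matrix.smul_mulVec, Matrix.one_mulVec, sub_self]
  apply hv
  calc ((X - 1) ^ 3) *ᵥ v = (y * (k - c • 1)) *ᵥ (((X - 1) ^ 3) *ᵥ v) := by
        rw [hK.comm y hy _ hkc, huy, Matrix.one_mulVec]
    _ = 0 := by rw [← Matrix.mulVec_mulVec, h9, Matrix.mulVec_zero]

end Cfsg.Agent.H776.U2
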